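import Groth.Agent.Sga84.TorsorDesc
import Groth.Prelude.Def_ChGrp
import Groth.Agent.AlgGrp79.Act
import Mathlib.AlgebraicGeometry.Sites.Fpqc
import Mathlib.AlgebraicGeometry.GammaSpecAdjunction
import Mathlib.AlgebraicGeometry.Morphisms.LocalFlatDescent

/-!
Fpqc torsors: descent of morphisms, functions and properties.
-/

set_option autoImplicit false
set_option linter.style.haveILetI false

noncomputable section

universe u

open CategoryTheory MonoidalCategory CartesianMonoidalCategory MonObj AlgebraicGeometry Opposite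

namespace Groth.Agent.Torsor99

variable {S : Scheme.{u}} {G X : Over S} [GrpObj G] {a : AlgGrp.Action G X}

/-- Two points differ by a point of the group. -/
theorem exists_translate (ha : NonAbH1.IsPseudoTorsorSch a) {T : Over S} (x y : T ⟶ X) :
    ∃ g : T ⟶ G, lift g x ≫ a.act = y := by
  haveI : IsIso (lift a.act (snd G X)) := ha
  set q := lift y x ≫ inv (lift a.act (snd G X)) with hq
  have e : q ≫ lift a.act (snd G X) = lift y x := by rw [hq, Category.assoc, IsIso.inv_hom_id, Category.comp_id]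
  have e1 : q ≫ a.act = y := by simpa using congrArg (· ≫ fst X X) e
  have e2 : q ≫ snd G X = x := by simpa using congrArg (· ≫ snd X X) e
  refine ⟨q ≫ fst G X, ?_⟩
  rw [show lift (q ≫ fst G X) x = q by rw [← e2]; exact CartesianMonoidalCategory.hom_ext _ _ (by simp) (by simp), e1]

/-- The action is free. -/
theorem translate_inj (ha : NonAbH1.IsPseudoTorsorSch a) {T : Over S} (x : T ⟶ X) {g h : T ⟶ G}
    (e : lift g x ≫ a.act = lift h x ≫ a.act) : g = h := by
  haveI : IsIso (lift a.act (snd G X)) := ha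
  have e' : lift g x ≫ lift a.act (snd G X) = lift h x ≫ lift a.act (snd G X) := by
    rw [comp_lift, comp_lift, e, lift_snd, lift_snd]
  simpa using congrArg (· ≫ fst G X) ((cancel_mono (lift a.act (snd G X))).mp e')

/-- Equivariant maps of pseudo-torsors are monomorphisms. -/
theorem mono_of_equivariant {X' : Over S} {a' : AlgGrp.Action G X'} (ha : NonAbH1.IsPseudoTorsorSch a)
    (ha' : NonAbH1.IsPseudoTorsorSch a') (f : X ⟶ X') (hf : AlgGrp.Action.IsEquivariant a a' f) :
    Mono f := by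
  refine ⟨fun {T} x y e => ?_⟩
  obtain ⟨g, hg⟩ := exists_translate ha x y
  have h1 : lift g (x ≫ f) ≫ a'.act = x ≫ f := by
    rw [← lift_whiskerLeft_assoc, ← hf, reassoc_of% hg]
    exact e.symm
  have h2 : g = 1 := translate_inj ha' (x ≫ f) (h1.trans (AlgGrp79.one_act' a' _).symm)
  rw [← hg, h2, AlgGrp79.one_act']

theorem isSheafFor_comap {R : Presieve S} (hR : R ∈ Scheme.fpqcPrecoverage S) {Y : Scheme.{u}} (π : Y ⟶ S)
    (A : Scheme.{u}) :
    Presieve.IsSheafFor (yoneda.obj A) ((Sieve.generate R).pullback π).arrows :=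
  (GrothendieckTopology.Subcanonical.isSheaf_of_isRepresentable (J := Scheme.fpqcTopology) (yoneda.obj A)) _
    (Scheme.fpqcTopology.pullback_stable π (Precoverage.generate_mem_toGrothendieck hR))

/-- Two morphisms agreeing on all points in the fibres over a cover are equal. -/
theorem ext_of_cover {R : Presieve S} (hR : R ∈ Scheme.fpqcPrecoverage S) {Y A : Scheme.{u}} (π : Y ⟶ S)
    (u v : Y ⟶ A)
    (h : ∀ ⦃T S' : Scheme.{u}⦄ (y : T ⟶ Y) (g : T ⟶ S') (f : S' ⟶ S), R f → g ≫ f = y ≫ π → y ≫ u = y ≫ v) :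
    u = v := by
  refine (isSheafFor_comap hR π A).isSeparatedFor.ext fun T y hy => ?_
  obtain ⟨S', g, f, hf, e⟩ := hy
  exact h y g f hf e

theorem isIso_of_equivariant {X' : Over S} {a' : AlgGrp.Action G X'}
    (ha : NonAbH1.IsTorsorFor Scheme.fpqcPrecoverage a) (ha' : NonAbH1.IsPseudoTorsorSch a')
    (f : X ⟶ X') (hf : AlgGrp.Action.IsEquivariant a a' f) : IsIso f := by
  obtain ⟨hp, R, hR, hsec⟩ := ha
  haveI := mono_of_equivariant hp ha' f hf
  have lifts : ∀ ⦃T : Scheme.{u}⦄ (y : T ⟶ X'.left), ((Sieve.generate R).pullback X'.hom).arrows y →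
      ∃ z : Over.mk (y ≫ X'.hom) ⟶ X, z ≫ f = Over.homMk y rfl := by
    intro T y hy
    obtain ⟨S', g, φ, hφ, e⟩ := hy
    obtain ⟨σ, hσ⟩ := hsec φ hφ
    let x : Over.mk (y ≫ X'.hom) ⟶ X := Over.homMk (g ≫ σ) (by
      show (g ≫ σ) ≫ X.hom = y ≫ X'.hom
      rw [Category.assoc, hσ, e])
    obtain ⟨k, hk⟩ := exists_translate ha' (x ≫ f) (Over.homMk y rfl)
    exact ⟨lift k x ≫ a.act, by rw [Category.assoc, hf, lift_whiskerLeft_assoc, hk]⟩
  choose z hz using lifts
  have hzl : ∀ {T : Scheme.{u}} (y : T ⟶ X'.left) hy, (z y hy).left ≫ f.left = y := fun y hy =>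
    congrArg CommaMorphism.left (hz y hy)
  have hsh := isSheafFor_comap hR X'.hom X.left
  let fam : Presieve.FamilyOfElements (yoneda.obj X.left) ((Sieve.generate R).pullback X'.hom).arrows :=
    fun T y hy => (z y hy).left
  have hfam : fam.Compatible := by
    intro Y₁ Y₂ Z g₁ g₂ y₁ y₂ h₁ h₂ e
    show g₁ ≫ (z y₁ h₁).left = g₂ ≫ (z y₂ h₂).left
    let u₁ : Over.mk (g₁ ≫ y₁ ≫ X'.hom) ⟶ X :=
      (Over.homMk g₁ rfl : Over.mk (g₁ ≫ y₁ ≫ X'.hom) ⟶ Over.mk (y₁ ≫ X'.hom)) ≫ z y₁ h₁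
    let u₂ : Over.mk (g₁ ≫ y₁ ≫ X'.hom) ⟶ X :=
      (Over.homMk g₂ (by
        show g₂ ≫ y₂ ≫ X'.hom = g₁ ≫ y₁ ≫ X'.hom
        rw [← Category.assoc, ← e, Category.assoc]) : Over.mk (g₁ ≫ y₁ ≫ X'.hom) ⟶ Over.mk (y₂ ≫ X'.hom)) ≫ z y₂ h₂
    have : u₁ = u₂ := by
      rw [← cancel_mono f]
      apply Over.OverMorphism.ext
      simp only [u₁, u₂, Over.comp_left, Over.homMk_left, Category.assoc, hzl]
      exact e
    exact congrArg CommaMorphism.left this
  let g₀ : X'.left ⟶ X.left := hsh.amalgamate fam hfam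
  have h₀ : g₀ ≫ f.left = 𝟙 _ := ext_of_cover hR X'.hom _ _ fun T S' y g φ hφ e => by
    have hy : ((Sieve.generate R).pullback X'.hom).arrows y := ⟨S', g, φ, hφ, e⟩
    rw [← Category.assoc, show y ≫ g₀ = (z y hy).left from hsh.valid_glue hfam y hy, hzl, Category.comp_id]
  let gg : X' ⟶ X := Over.homMk g₀ (by
    rw [← Over.w f, ← Category.assoc, h₀, Category.id_comp])
  have h1 : gg ≫ f = 𝟙 _ := Over.OverMorphism.ext h₀
  exact ⟨gg, by rw [← cancel_mono f, Category.assoc, h1, Category.comp_id, Category.id_comp], h1⟩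

/-- The two endpoints of an arrow in a torsor have the same image under an invariant morphism. -/
theorem comp_eq_of_invariant (ha : NonAbH1.IsPseudoTorsorSch a) {A : Scheme.{u}} (t : X.left ⟶ A)
    (hinv : a.act.left ≫ t = (snd G X).left ≫ t) {T : Scheme.{u}} (x y : T ⟶ X.left)
    (h : x ≫ X.hom = y ≫ X.hom) : x ≫ t = y ≫ t := by
  let x' : Over.mk (x ≫ X.hom) ⟶ X := Over.homMk x rfl
  let y' : Over.mk (x ≫ X.hom) ⟶ X := Over.homMk y h.symm
  obtain ⟨g, hg⟩ := exists_translate ha x' y'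
  have e1 : (lift g x').left ≫ a.act.left = y := congrArg CommaMorphism.left hg
  have e2 : (lift g x').left ≫ (snd G X).left = x := by
    rw [← Over.comp_left, lift_snd]; rfl
  calc x ≫ t = ((lift g x').left ≫ (snd G X).left) ≫ t := congrArg (· ≫ t) e2.symm
    _ = ((lift g x').left ≫ a.act.left) ≫ t := by rw [Category.assoc, ← hinv, ← Category.assoc]
    _ = y ≫ t := congrArg (· ≫ t) e1

theorem existsUnique_desc (h : NonAbH1.IsTorsorFor Scheme.fpqcPrecoverage a) {A : Scheme.{u}}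
    (t : X.left ⟶ A) (hinv : a.act.left ≫ t = (snd G X).left ≫ t) :
    ∃ t₀ : S ⟶ A, X.hom ≫ t₀ = t := by
  obtain ⟨hp, R, hR, hsec⟩ := h
  choose σ hσ using hsec
  have hsh : Presieve.IsSheafFor (yoneda.obj A) R :=
    (GrothendieckTopology.Subcanonical.isSheaf_of_isRepresentable (J := Scheme.fpqcTopology) (yoneda.obj A)).isSheafFor R
      (Precoverage.generate_mem_toGrothendieck hR)
  let fam : Presieve.FamilyOfElements (yoneda.obj A) R := fun S' f hf => σ f hf ≫ t
  have hfam : fam.Compatible := by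
    intro Y₁ Y₂ Z g₁ g₂ f₁ f₂ h₁ h₂ e
    show g₁ ≫ σ f₁ h₁ ≫ t = g₂ ≫ σ f₂ h₂ ≫ t
    rw [← Category.assoc, ← Category.assoc]
    exact comp_eq_of_invariant hp t hinv _ _ (by rw [Category.assoc, Category.assoc, hσ, hσ, e])
  refine ⟨hsh.amalgamate fam hfam, ext_of_cover hR X.hom _ _ fun T S' y g f hf e => ?_⟩
  have hv : f ≫ hsh.amalgamate fam hfam = σ f hf ≫ t := hsh.valid_glue hfam f hf
  rw [← Category.assoc, ← e, Category.assoc, hv, ← Category.assoc]
  exact comp_eq_of_invariant hp t hinv _ _ (by rw [Category.assoc, hσ, e])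

theorem hom_cancel (h : NonAbH1.IsLocallyTrivialFor Scheme.fpqcPrecoverage X) {A : Scheme.{u}}
    {u v : S ⟶ A} (e : X.hom ≫ u = X.hom ≫ v) : u = v := by
  obtain ⟨R, hR, hsec⟩ := h
  refine ext_of_cover hR (𝟙 S) u v fun T S' y g f hf hy => ?_
  obtain ⟨σ, hσ⟩ := hsec f hf
  rw [Category.comp_id] at hy
  rw [← hy, Category.assoc, Category.assoc, ← hσ, Category.assoc, Category.assoc, e]

section Gamma

/-- The ring of polynomials in one variable over the integers. -/
abbrev polyRing : CommRingCat.{u} := CommRingCat.of (MvPolynomial (ULift.{u} Unit) (ULift.{u} ℤ))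

/-- The morphism to the line of a function. -/
def toLine {Y : Scheme.{u}} (s : Γ(Y, ⊤)) : Y ⟶ Spec polyRing :=
  Y.toSpecΓ ≫ Spec.map (CommRingCat.ofHom
    (MvPolynomial.eval₂Hom ((Int.castRingHom Γ(Y, ⊤)).comp ULift.ringEquiv.toRingHom) fun _ => s))

/-- The function of a morphism to the line. -/
def ofLine {Y : Scheme.{u}} (m : Y ⟶ Spec polyRing) : Γ(Y, ⊤) :=
  m.appTop ((Scheme.ΓSpecIso polyRing).inv (MvPolynomial.X ⟨()⟩))

theorem ofLine_comp {Y Z : Scheme.{u}} (f : Y ⟶ Z) (m : Z ⟶ Spec polyRing) :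
    ofLine (f ≫ m) = f.appTop (ofLine m) := rfl

theorem ofLine_toLine {Y : Scheme.{u}} (s : Γ(Y, ⊤)) : ofLine (toLine s) = s := by
  simp only [ofLine, toLine, Scheme.Hom.comp_appTop, CommRingCat.comp_apply, Scheme.toSpecΓ_appTop]
  rw [← CommRingCat.comp_apply, ← CommRingCat.comp_apply]
  erw [← Scheme.ΓSpecIso_inv_naturality_assoc]
  simp

theorem ofLine_injective {Y : Scheme.{u}} : Function.Injective (ofLine (Y := Y)) := by
  intro m m' h
  apply ext_of_isAffine
  ext : 1
  refine (cancel_epi (Scheme.ΓSpecIso polyRing).inv).mp ?_ |> congrArg CommRingCat.Hom.hom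
  apply CommRingCat.hom_ext
  apply MvPolynomial.ringHom_ext
  · intro n
    obtain ⟨n, rfl⟩ := (ULift.ringEquiv.symm : ℤ ≃+* ULift.{u} ℤ).surjective n
    exact congrArg (fun φ : ℤ →+* Γ(Y, ⊤) => φ n) (Subsingleton.elim
      ((((Scheme.ΓSpecIso polyRing).inv ≫ m.appTop).hom).comp (MvPolynomial.C.comp (ULift.ringEquiv.symm : ℤ ≃+* ULift.{u} ℤ).toRingHom))
      ((((Scheme.ΓSpecIso polyRing).inv ≫ m'.appTop).hom).comp (MvPolynomial.C.comp (ULift.ringEquiv.symm : ℤ ≃+* ULift.{u} ℤ).toRingHom)))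
  · intro i
    exact h

theorem appTop_injective_and_range (h : NonAbH1.IsTorsorFor Scheme.fpqcPrecoverage a) :
    Function.Injective X.hom.appTop.hom ∧
      ∀ s : Γ(X.left, ⊤), s ∈ Set.range X.hom.appTop.hom ↔
        a.act.left.appTop.hom s = (snd G X).left.appTop.hom s := by
  refine ⟨fun p q e => ?_, fun s => ⟨?_, fun e => ?_⟩⟩
  · rw [← ofLine_toLine p, ← ofLine_toLine q]
    refine congrArg ofLine (hom_cancel h.2 (ofLine_injective ?_))
    rw [ofLine_comp, ofLine_comp, ofLine_toLine, ofLine_toLine]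
    exact e
  · rintro ⟨p, rfl⟩
    rw [← CommRingCat.comp_apply, ← CommRingCat.comp_apply, ← Scheme.Hom.comp_appTop, ← Scheme.Hom.comp_appTop,
      Over.w, Over.w]
  · obtain ⟨t₀, ht⟩ := existsUnique_desc h (toLine s) (ofLine_injective (by
      rw [ofLine_comp, ofLine_comp, ofLine_toLine]; exact e))
    refine ⟨ofLine t₀, ?_⟩
    have := congrArg ofLine ht
    rw [ofLine_comp, ofLine_toLine] at this
    exact this

end Gamma

theorem properties (h : NonAbH1.IsTorsorFor Scheme.fpqcPrecoverage a) :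
    (LocallyOfFiniteType G.hom → LocallyOfFiniteType X.hom) ∧ (QuasiCompact G.hom → QuasiCompact X.hom) ∧
      (IsFinite G.hom → IsFinite X.hom) ∧ (Smooth G.hom → Smooth X.hom) ∧ (Etale G.hom → Etale X.hom) := by
  haveI := Unr55.quasiCompact.{u}
  haveI := Unr55.isFinite.{u}
  exact ⟨fun hG => Sga84.hom_of_isTorsorFor @LocallyOfFiniteType hG h,
    fun hG => Sga84.hom_of_isTorsorFor @QuasiCompact hG h,
    fun hG => Sga84.hom_of_isTorsorFor @IsFinite hG h,
    fun hG => Sga84.hom_of_isTorsorFor @Smooth hG h,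
    fun hG => Sga84.hom_of_isTorsorFor @Etale hG h⟩

end Groth.Agent.Torsor99
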